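import Mathlib.RingTheory.Derivation.Basic
import Mathlib.RingTheory.Filtration
import Mathlib.Tactic.LinearCombination
import Mathlib.Tactic.Ring
import Mathlib.RingTheory.LocalRing.MaximalIdeal.Basic

/-!
An element with derivative one is regular modulo an ideal stable under the derivation (Q-algebras).
-/

universe u

open IsLocalRing

namespace Groth.Agent.DerReg1

theorem mem_of_mul_mem {k R : Type u} [CommRing k] [CommRing R] [Algebra k R] [IsLocalRing R]
    [IsNoetherianRing R] (hq : ∀ n : ℕ, IsUnit (((n + 1 : ℕ) : R))) (D : Derivation k R R) (I : Ideal R)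
    (hI : ∀ x ∈ I, D x ∈ I) {f : R} (hDf : D f = 1) (hf : f ∈ maximalIdeal R) {g : R}
    (hfg : f * g ∈ I) : g ∈ I := by
  have key : ∀ n : ℕ, ∃ a ∈ I, ∃ h : R, g = a + f ^ n * h := by
    intro n
    induction n with
    | zero => exact ⟨0, I.zero_mem, g, by simp⟩
    | succ n ih =>
      obtain ⟨a, ha, h, rfl⟩ := ih
      have h1 : f ^ (n + 1) * h ∈ I := by
        have : f ^ (n + 1) * h = f * (a + f ^ n * h) - f * a := by ring
        rw [this]; exact I.sub_mem hfg (I.mul_mem_left _ ha)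
      have h2 := hI _ h1
      rw [Derivation.leibniz, Derivation.leibniz_pow, hDf, Nat.add_sub_cancel, smul_eq_mul, smul_eq_mul,
        smul_eq_mul, mul_one, nsmul_eq_mul] at h2
      obtain ⟨u, hu⟩ := hq n
      have hinv : ((↑u⁻¹ : R)) * ((n + 1 : ℕ) : R) = 1 := by rw [← hu]; exact u.inv_mul
      refine ⟨a + ↑u⁻¹ * (f ^ (n + 1) * D h + h * (((n + 1 : ℕ) : R) * f ^ n)),
        I.add_mem ha (I.mul_mem_left _ h2), -(↑u⁻¹ * D h), ?_⟩
      linear_combination -(h * f ^ n) * hinv
  have hmem : Ideal.Quotient.mk I g ∈ (⨅ n : ℕ, maximalIdeal R ^ n • ⊤ : Submodule R (R ⧸ I)) := by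
    rw [Submodule.mem_iInf]
    intro n
    obtain ⟨a, ha, h, rfl⟩ := key n
    rw [map_add, Ideal.Quotient.eq_zero_iff_mem.2 ha, zero_add]
    exact Submodule.smul_mem_smul (Ideal.pow_mem_pow hf n) (Submodule.mem_top (x := Ideal.Quotient.mk I h))
  rw [Ideal.iInf_pow_smul_eq_bot_of_isLocalRing _ (maximalIdeal.isMaximal R).ne_top,
    Submodule.mem_bot, Ideal.Quotient.eq_zero_iff_mem] at hmem
  exact hmem

end Groth.Agent.DerReg1
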