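import Groth.Agent.Lib.DerReg1.Basic
import Groth.Agent.Lib.SmoothRank1.Basic
import Mathlib.RingTheory.Regular.RegularSequence
import Mathlib.RingTheory.KrullDimension.Regular
import Mathlib.FieldTheory.Perfect
import Mathlib.RingTheory.AlgebraicIndependent.Transcendental

/-!
Free differentials in characteristic zero force regularity.
-/

universe u

open TensorProduct IsLocalRing KaehlerDifferential

namespace Groth.Agent.DerReg1

theorem isWeaklyRegular_of_derivations {k R : Type u} [CommRing k] [CommRing R] [Algebra k R]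
    [IsLocalRing R] [IsNoetherianRing R] (hq : ∀ n : ℕ, IsUnit (((n + 1 : ℕ) : R))) {n : ℕ}
    (t : Fin n → R) (ht : ∀ i, t i ∈ maximalIdeal R) (D : Fin n → Derivation k R R)
    (hD : ∀ i j, D i (t j) = if i = j then 1 else 0) :
    RingTheory.Sequence.IsWeaklyRegular R (List.ofFn t) := by
  refine ⟨fun i hi => ?_⟩
  have hin : i < n := by simpa using hi
  set I : Ideal R := Ideal.ofList ((List.ofFn t).take i) with hIdef
  rw [List.getElem_ofFn hi]
  have hI : ∀ x ∈ I, D ⟨i, hin⟩ x ∈ I := by
    intro x hx
    refine Submodule.span_induction (p := fun x _ => D ⟨i, hin⟩ x ∈ I) ?_ ?_ ?_ ?_ hx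
    · intro y hy
      obtain ⟨j, hj, rfl⟩ := List.mem_take_iff_getElem.1 hy
      rw [List.getElem_ofFn, hD, if_neg]
      · exact I.zero_mem
      · intro h
        have := congrArg Fin.val h
        simp at this
        omega
    · rw [map_zero]; exact I.zero_mem
    · intro a b _ _ ha hb; rw [map_add]; exact I.add_mem ha hb
    · intro a y hy h
      rw [smul_eq_mul, Derivation.leibniz]
      exact I.add_mem (I.mul_mem_left _ h) (I.mul_mem_right _ hy)
  rw [show (I • ⊤ : Submodule R R) = I from Ideal.mul_top I]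
  intro a b hab
  obtain ⟨a, rfl⟩ := Ideal.Quotient.mk_surjective a
  obtain ⟨b, rfl⟩ := Ideal.Quotient.mk_surjective b
  refine (Ideal.Quotient.mk_eq_mk_iff_sub_mem a b).2 ?_
  refine mem_of_mul_mem hq (D ⟨i, hin⟩) I hI (f := t ⟨i, hin⟩) ?_ (ht _) (g := a - b) ?_
  · rw [hD, if_pos rfl]
  · rw [mul_sub]
    exact (Ideal.Quotient.mk_eq_mk_iff_sub_mem _ _).1 hab

theorem isRegularLocalRing_of_free {k R : Type u} [Field k] [CharZero k]
    [CommRing R] [Algebra k R] [IsLocalRing R] [IsNoetherianRing R]
    (hres : Function.Surjective (algebraMap k (ResidueField R)))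
    (n : ℕ) (e : Ω[R⁄k] ≃ₗ[R] (Fin n → R)) :
    IsRegularLocalRing R ∧ ringKrullDim R = n := by
  haveI : Module.Finite R Ω[R⁄k] := Module.Finite.equiv e.symm
  haveI : Module.Finite k (ResidueField R) :=
    Module.Finite.of_surjective (Algebra.linearMap k (ResidueField R)) hres
  have htr : Cardinal.toNat (Algebra.trdeg k (ResidueField R)) = 0 := by
    rw [trdeg_eq_zero (R := k) (A := ResidueField R), map_zero]
  have hspan : (maximalIdeal R).spanFinrank = n := by
    have h1 := Groth.Agent.SmoothRank1.finrank_residue_tensor_kaehler k R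
    rw [htr, add_zero, ← IsLocalRing.spanFinrank_maximalIdeal_eq_finrank_cotangentSpace] at h1
    haveI : Module.Free R Ω[R⁄k] := Module.Free.of_equiv e.symm
    rw [Module.finrank_baseChange, e.finrank_eq, Module.finrank_fin_fun] at h1
    exact h1.symm
  have hfg : (maximalIdeal R).FG := (maximalIdeal R).fg_of_isNoetherianRing
  obtain ⟨s, hscard, hs⟩ := Submodule.FG.exists_span_finset_card_eq_spanFinrank hfg
  rw [hspan] at hscard
  let t : Fin n → R := fun i => ((s.equivFinOfCardEq hscard).symm i : R)
  have hrange : Set.range t = (s : Set R) := by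
    ext x
    constructor
    · rintro ⟨i, rfl⟩; exact ((s.equivFinOfCardEq hscard).symm i).2
    · intro hx; exact ⟨s.equivFinOfCardEq hscard ⟨x, hx⟩, by simp [t]⟩
  have htm : Ideal.span (Set.range t) = maximalIdeal R := by rw [hrange]; exact hs
  have ht : ∀ i, t i ∈ maximalIdeal R := fun i => htm ▸ Ideal.subset_span ⟨i, rfl⟩
  let φ : (Fin n → R) →ₗ[R] Ω[R⁄k] := Fintype.linearCombination R fun j => D k R (t j)
  have hφ : Function.Surjective φ := by
    rw [← LinearMap.range_eq_top]
    refine top_le_iff.1 (Submodule.le_of_le_smul_of_le_jacobson_bot Module.Finite.fg_top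
      (maximalIdeal_le_jacobson ⊥) ?_)
    refine le_trans (span_range_derivation k R).ge (Submodule.span_le.2 ?_)
    rintro _ ⟨x, rfl⟩
    obtain ⟨c, hc⟩ := hres (residue R x)
    have hxm : x - algebraMap k R c ∈ Ideal.span (Set.range t) := by
      rw [htm, ← IsLocalRing.residue_eq_zero_iff, map_sub, ← hc, sub_eq_zero]
      rfl
    obtain ⟨a, ha⟩ := Ideal.mem_span_range_iff_exists_fun.1 hxm
    have hx : x = algebraMap k R c + ∑ j, a j * t j := by rw [ha]; ring
    rw [SetLike.mem_coe, hx, map_add, Derivation.map_algebraMap, zero_add, map_sum]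
    refine Submodule.sum_mem _ fun j _ => ?_
    rw [Derivation.leibniz]
    refine Submodule.add_mem_sup ?_ ?_
    · refine ⟨Pi.single j (a j), ?_⟩
      simp [φ, Fintype.linearCombination_apply_single]
    · exact Submodule.smul_mem_smul (ht j) (Submodule.mem_top)
  have hφi : Function.Injective φ :=
    Function.Injective.of_comp (f := e) (g := φ)
      (OrzechProperty.injective_of_surjective_endomorphism (e.toLinearMap ∘ₗ φ)
        (e.surjective.comp hφ))
  let ψ := LinearEquiv.ofBijective φ ⟨hφi, hφ⟩
  let Ds : Fin n → Derivation k R R := fun i =>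
    ((LinearMap.proj i).comp ψ.symm.toLinearMap).compDer (D k R)
  have hD : ∀ i j, Ds i (t j) = if i = j then 1 else 0 := by
    intro i j
    have h1 : ψ.symm (D k R (t j)) = Pi.single j 1 := by
      rw [LinearEquiv.symm_apply_eq]
      simp [ψ, φ, Fintype.linearCombination_apply_single]
    change ψ.symm (D k R (t j)) i = _
    rw [h1, Pi.single_apply]
  have hq : ∀ m : ℕ, IsUnit (((m + 1 : ℕ) : R)) := fun m => by
    have : IsUnit ((m + 1 : ℕ) : k) := IsUnit.mk0 _ (Nat.cast_ne_zero.2 m.succ_ne_zero)
    simpa using this.map (algebraMap k R)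
  have hol : Ideal.ofList (List.ofFn t) = maximalIdeal R := by
    rw [← htm, Ideal.ofList]
    congr 1
    ext x
    simp [List.mem_ofFn]
  have hreg : RingTheory.Sequence.IsRegular R (List.ofFn t) :=
    ⟨isWeaklyRegular_of_derivations hq t ht Ds hD, by
      rw [hol, show (maximalIdeal R • ⊤ : Submodule R R) = maximalIdeal R from Ideal.mul_top _]
      exact (maximalIdeal.isMaximal R).ne_top.symm⟩
  have hdim : ringKrullDim R = n := by
    rw [← ringKrullDim_add_length_eq_ringKrullDim_of_isRegular _ hreg, List.length_ofFn,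
      ringKrullDim_eq_of_ringEquiv (Ideal.quotEquivOfEq hol),
      show ringKrullDim (R ⧸ maximalIdeal R) = 0 from ringKrullDim_eq_zero_of_field (ResidueField R),
      zero_add]
  exact ⟨IsRegularLocalRing.of_spanFinrank_maximalIdeal_le _ (by rw [hdim, hspan]), hdim⟩

end Groth.Agent.DerReg1
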